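import Cfsg.Agent.H523.EPX.FiveTor
import Cfsg.Agent.H476.Conj.Tits
import Cfsg.Agent.H938.EPK.Z
import Cfsg.Agent.H209.EPX.Defs
import Cfsg.Agent.H894.EK.Rows
import Cfsg.Agent.H778.ExcIdx
import Cfsg.Agent.H208.PiExc.Cases

/-!
# S5745, CrossK: `T ≅ ²F₄(2)'`, `k ≥ 2` (helper523)

No `T ^ k`, `k ≥ 2`, in `F₄(q)`, `E₆(q)`, `²E₆(q)`, `E₇(q)`, `5 ∤ q`.  `T` has a subgroup of order 25 whose 24 nontrivial elements
are conjugate (`H476.Conj.five_tits`).
-/

set_option autoImplicit false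

namespace Cfsg.Agent.H523.EPX.TK

open CoxeterSystem Cfsg Cfsg.Lie Cfsg.Lie.ChevalleyDatum Module
open Cfsg.Agent.ChevalleyStructure Cfsg.Agent.ChevalleyStructure.Elts Cfsg.Agent.ChevalleyStructure.CoxeterGeom
  Cfsg.Agent.ChevalleyStructure.CoxeterGeomTypes Cfsg.Agent.ChevalleyStructure.RootVec
open Cfsg.Agent.Tits.Roots Cfsg.Agent.Tits.Core Cfsg.Agent.Nodes Cfsg.Agent.Nodes.Reps Cfsg.Agent.Nodes.BNOf
  Cfsg.Agent.Nodes.RGDChev
open Cfsg.Agent.KFacts.RgdChevCoord Cfsg.Agent.H129.TorusChar Cfsg.Agent.BpExc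

universe u v

theorem tyF : IsType chevF4 4 CoxeterMatrix.F₄ := by simp [IsType, typeList]
theorem tyE : IsType chevE6 6 CoxeterMatrix.E₆ := by simp [IsType, typeList]
theorem tyS : IsType chevE7 7 CoxeterMatrix.E₇ := by simp [IsType, typeList]

section Gen

variable {D : ChevalleyDatum} {l : ℕ} {M : CoxeterMatrix (Fin l)} (hp : IsType D l M) {k : Type u} [Field k]

/-- the simple roots are in the table -/
theorem gen_of_simple {tab : List (ℕ × ℕ × List (ℕ × ℕ))}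
    (htab : ∀ i : Fin l, ∃ a ∈ tab, a.1 = D.simple i) {t : ↥(D.group k)} (ht : t ∈ TT D k)
    (h : ∀ a ∈ tab, cX hp t (vec D l a.1) = 1) : t = 1 := by
  refine cX_inj hp ht (one_mem _) fun i => ?_
  obtain ⟨a, ha, hai⟩ := htab i
  rw [cX_one, ← vec_simple hp i, ← hai]
  exact h a ha

end Gen

theorem genE : ∀ i : Fin 6, ∃ a ∈ tabE, a.1 = chevE6.simple i := by decide +kernel

theorem genS : ∀ i : Fin 7, ∃ a ∈ tabS, a.1 = chevE7.simple i := by decide +kernel

theorem memF : ∀ n ∈ [25, 24, 30, 41], ∃ a ∈ tabF, a.1 = n := by decide +kernel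

theorem genF {k : Type u} [Field k] {t : ↥(chevF4.group k)} (ht : t ∈ TT chevF4 k) (ht5 : t ^ 5 = 1)
    (h : ∀ a ∈ tabF, cX tyF t (vec chevF4 4 a.1) = 1) : t = 1 := by
  have hM := isMC_cX tyF ht
  have hpow : ∀ x, cX tyF t x ^ 5 = 1 := by
    intro x
    rw [← cX_pow tyF ht, ht5, cX_one]
  have hg : ∀ n ∈ [25, 24, 30, 41], cX tyF t (vec chevF4 4 n) = 1 := by
    intro n hn
    obtain ⟨a, ha, rfl⟩ := memF n hn
    exact h a ha
  have h2 := hg 25 (by decide)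
  have h3 := hg 24 (by decide)
  have h30 := hg 30 (by decide)
  have h41 := hg 41 (by decide)
  have e30 : vec chevF4 4 30 = vec chevF4 4 28 + vec chevF4 4 27 :=
    vec_eq_of (by decide +kernel) rfl
  have e28 : vec chevF4 4 28 = vec chevF4 4 27 + vec chevF4 4 25 :=
    vec_eq_of (by decide +kernel) rfl
  have e41 : vec chevF4 4 41 = vec chevF4 4 37 + vec chevF4 4 33 :=
    vec_eq_of (by decide +kernel) rfl
  have e37 : vec chevF4 4 37 = vec chevF4 4 30 + vec chevF4 4 33 :=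
    vec_eq_of (by decide +kernel) rfl
  have key : ∀ c : k, c ^ 5 = 1 → c * c = 1 → c = 1 := by
    intro c h5 h2
    have e : c ^ 5 = c * c * (c * c) * c := by ring
    rw [e, h2, one_mul, one_mul] at h5
    exact h5
  have h1 : cX tyF t (vec chevF4 4 27) = 1 := by
    apply key _ (hpow _)
    rw [e30, e28, hM.add, hM.add, h2, mul_one] at h30
    exact h30
  have h0 : cX tyF t (vec chevF4 4 33) = 1 := by
    apply key _ (hpow _)
    rw [e41, e37, hM.add, hM.add, h30, one_mul] at h41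
    exact h41
  refine cX_inj tyF ht (one_mem _) fun i => ?_
  rw [cX_one, ← vec_simple tyF i]
  have hs : chevF4.simple i ∈ [33, 27, 25, 24] := by
    revert i
    decide +kernel
  simp only [List.mem_cons, List.not_mem_nil, or_false] at hs
  rcases hs with hs | hs | hs | hs <;> rw [hs]
  · exact h0
  · exact h1
  · exact h2
  · exact h3

section Main

variable {F : Type u} [Field F] [Finite F] (r : ℕ) [Fact r.Prime] [CharP F r] {T : Type v} [Group T] {P₀ : Subgroup T}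

theorem numF (e₁ e₂ : ℕ) (h1 : 5 ∣ e₁) (h2 : 5 ∣ e₂) (h3 : 2 * 14 + 4 ≤ 6 * e₁) (h4 : 2 * 14 + 4 ≤ 6 * e₂)
    (h5 : 24 * (e₁ + e₂) ≤ 5 * (chevF4.rank + chevF4.nroots)) : False := by
  have e : chevF4.rank + chevF4.nroots = 52 := by decide +kernel
  omega

theorem numE (e₁ e₂ : ℕ) (h1 : 5 ∣ e₁) (h2 : 5 ∣ e₂) (h3 : 2 * 20 + 4 ≤ 6 * e₁) (h4 : 2 * 20 + 4 ≤ 6 * e₂)
    (h5 : 24 * (e₁ + e₂) ≤ 5 * (chevE6.rank + chevE6.nroots)) : False := by
  have e : chevE6.rank + chevE6.nroots = 78 := by decide +kernel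
  omega

theorem numS (e₁ e₂ : ℕ) (h1 : 5 ∣ e₁) (h2 : 5 ∣ e₂) (h3 : 2 * 32 + 4 ≤ 6 * e₁) (h4 : 2 * 32 + 4 ≤ 6 * e₂)
    (h5 : 24 * (e₁ + e₂) ≤ 5 * (chevE7.rank + chevE7.nroots)) : False := by
  have e : chevE7.rank + chevE7.nroots = 133 := by decide +kernel
  omega

/-- no `T × T` in `F₄(q)` -/
theorem no_sq_F4 (hr : r ≠ 5) (hP : Nat.card P₀ = 25)
    (hfus : ∀ x ∈ P₀, x ≠ 1 → ∀ y ∈ P₀, y ≠ 1 → ∃ s : T, s * x * s⁻¹ = y) (f : T × T →* ↥(chevF4.group F))
    (hf : Function.Injective f) : False := by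
  have := charP_of_injective_algebraMap (algebraMap F (AlgebraicClosure F)).injective r
  refine no_five_sq tyF (k := AlgebraicClosure F) r (H208.PiExc.hAlg_closure F r) hr chkF
    (fun t ht ht5 h => genF ht ht5 h) numF (by decide +kernel) hP hfus
    ((GpExc.Field.emb tyF.inList (algebraMap F (AlgebraicClosure F))).comp f) ?_
  exact (GpExc.Field.emb_injective tyF.inList _).comp hf

/-- no `T × T` in `E₆(q)` -/
theorem no_sq_E6 (hr : r ≠ 5) (hP : Nat.card P₀ = 25)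
    (hfus : ∀ x ∈ P₀, x ≠ 1 → ∀ y ∈ P₀, y ≠ 1 → ∃ s : T, s * x * s⁻¹ = y) (f : T × T →* ↥(chevE6.group F))
    (hf : Function.Injective f) : False := by
  have := charP_of_injective_algebraMap (algebraMap F (AlgebraicClosure F)).injective r
  refine no_five_sq tyE (k := AlgebraicClosure F) r (H208.PiExc.hAlg_closure F r) hr chkE
    (fun t ht _ h => gen_of_simple tyE genE ht h) numE (by decide +kernel) hP hfus
    ((GpExc.Field.emb tyE.inList (algebraMap F (AlgebraicClosure F))).comp f) ?_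
  exact (GpExc.Field.emb_injective tyE.inList _).comp hf

/-- no `T × T` in `E₇(q)` -/
theorem no_sq_E7 (hr : r ≠ 5) (hP : Nat.card P₀ = 25)
    (hfus : ∀ x ∈ P₀, x ≠ 1 → ∀ y ∈ P₀, y ≠ 1 → ∃ s : T, s * x * s⁻¹ = y) (f : T × T →* ↥(chevE7.group F))
    (hf : Function.Injective f) : False := by
  have := charP_of_injective_algebraMap (algebraMap F (AlgebraicClosure F)).injective r
  refine no_five_sq tyS (k := AlgebraicClosure F) r (H208.PiExc.hAlg_closure F r) hr chkS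
    (fun t ht _ h => gen_of_simple tyS genS ht h) numS (by decide +kernel) hP hfus
    ((GpExc.Field.emb tyS.inList (algebraMap F (AlgebraicClosure F))).comp f) ?_
  exact (GpExc.Field.emb_injective tyS.inList _).comp hf

end Main

/-! ### the Tits group -/

/-- the subgroup of order 25 -/
theorem five_of_isoTits {T : Type*} [Group T] (hT : IsoTits T) : ∃ P : Subgroup T, Nat.card P = 25 ∧
    ∀ x ∈ P, x ≠ 1 → ∀ y ∈ P, y ≠ 1 → ∃ s : T, s * x * s⁻¹ = y := by
  obtain ⟨e⟩ := hT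
  obtain ⟨P, hP, h⟩ := H476.Conj.five_tits
  refine ⟨P.map (e.symm : TitsGroup →* T), ?_, ?_⟩
  · rw [← hP]
    exact (Nat.card_congr (P.equivMapOfInjective _ e.symm.injective).toEquiv).symm
  · rintro _ ⟨x, hx, rfl⟩ hx1 _ ⟨y, hy, rfl⟩ hy1
    obtain ⟨s, hs⟩ := h x hx (fun h => hx1 (by rw [h]; exact map_one _)) y hy fun h => hy1 (by rw [h]; exact map_one _)
    refine ⟨e.symm s, ?_⟩
    rw [← hs]
    simp

section EPS

open Cfsg.Agent.H209.EPX Cfsg.Agent.H894.EK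

theorem exists_sq {G : Type*} [Group G] {H N : Subgroup G} {T : Type} [Group T] {k : ℕ} {e : N ≃* (Fin k → T)}
    (_h : EPS H N e) (hk : 2 ≤ k) : ∃ f : T × T →* G, Function.Injective f := by
  obtain ⟨f, hf, -⟩ := Cfsg.Agent.H938.EPK.exists_hom2 e hk
  exact ⟨f, hf⟩

variable {F : Type} [Field F] [Fintype F] {T : Type} [Group T] {k : ℕ}

/-- `F₄(q)` -/
theorem titsk_F4 (r : ℕ) [Fact r.Prime] [CharP F r] (hr : r ≠ 5) {H N : Subgroup ↥(chevF4.group F)} {e : N ≃* (Fin k → T)}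
    (h : EPS H N e) (hk : 2 ≤ k) (hT : IsoTits T) : False := by
  obtain ⟨P, hP, hfus⟩ := five_of_isoTits hT
  obtain ⟨f, hf⟩ := exists_sq h hk
  exact no_sq_F4 r hr hP hfus f hf

/-- `E₆(q)` -/
theorem titsk_E6 (r : ℕ) [Fact r.Prime] [CharP F r] (hr : r ≠ 5) {H N : Subgroup ↥(chevE6.group F)} {e : N ≃* (Fin k → T)}
    (h : EPS H N e) (hk : 2 ≤ k) (hT : IsoTits T) : False := by
  obtain ⟨P, hP, hfus⟩ := five_of_isoTits hT
  obtain ⟨f, hf⟩ := exists_sq h hk
  exact no_sq_E6 r hr hP hfus f hf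

/-- `E₇(q)` -/
theorem titsk_E7 (r : ℕ) [Fact r.Prime] [CharP F r] (hr : r ≠ 5) {H N : Subgroup ↥(chevE7.group F)} {e : N ≃* (Fin k → T)}
    (h : EPS H N e) (hk : 2 ≤ k) (hT : IsoTits T) : False := by
  obtain ⟨P, hP, hfus⟩ := five_of_isoTits hT
  obtain ⟨f, hf⟩ := exists_sq h hk
  exact no_sq_E7 r hr hP hfus f hf

/-- `²E₆(q)` -/
theorem titsk_TE6 (r : ℕ) [Fact r.Prime] [CharP F r] (hr : r ≠ 5) {q : ℕ} {H N : Subgroup ↥(twistedE6 F q)}
    {e : N ≃* (Fin k → T)} (h : EPS H N e) (hk : 2 ≤ k) (hT : IsoTits T) : False := by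
  obtain ⟨P, hP, hfus⟩ := five_of_isoTits hT
  obtain ⟨f, hf⟩ := exists_sq h hk
  exact no_sq_E6 r hr hP hfus ((H778.Exc.incK F q).comp f) (H778.Exc.incK_injective.comp hf)

/-! ### the fields of `H894.EK.RowsF4`, `RowsE6`, `RowsTE6`, `RowsE7` -/

theorem charP_two {F : Type} [Field F] [Fintype F] {n : ℕ} (hF : Fintype.card F = 2 ^ n) : CharP F 2 := by
  obtain ⟨p, hp⟩ := CharP.exists F
  obtain ⟨m, hp', hm⟩ := FiniteField.card F p
  have h1 : p ∣ 2 ^ n := by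
    rw [← hF, hm]
    exact dvd_pow_self p m.pos.ne'
  have h2 : p = 2 := (Nat.prime_dvd_prime_iff_eq hp' Nat.prime_two).1 (hp'.dvd_of_dvd_pow h1)
  rwa [h2] at hp

theorem row_F4_tits (F : Type) [Field F] [Fintype F] (hF : Fintype.card F = 4) : Row (Nm .tits) ↥(chevF4.group F) 2 := by
  have := charP_two (n := 2) hF
  have : Fact (Nat.Prime 2) := ⟨Nat.prime_two⟩
  intro H N T _ e h hT
  exact titsk_F4 2 (by norm_num) h le_rfl hT

theorem row_E6_tits (F : Type) [Field F] [Fintype F] (hF : Fintype.card F = 4) : Row (Nm .tits) ↥(chevE6.group F) 2 := by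
  have := charP_two (n := 2) hF
  have : Fact (Nat.Prime 2) := ⟨Nat.prime_two⟩
  intro H N T _ e h hT
  exact titsk_E6 2 (by norm_num) h le_rfl hT

theorem row_TE6_tits (K : Type) [Field K] [Fintype K] {q : ℕ} (hK : Fintype.card K = q ^ 2) (hq : q = 4) :
    Row (Nm .tits) ↥(twistedE6 K q) 2 := by
  have := charP_two (F := K) (n := 4) (by rw [hK, hq]; norm_num)
  have : Fact (Nat.Prime 2) := ⟨Nat.prime_two⟩
  intro H N T _ e h hT
  exact titsk_TE6 2 (by norm_num) h le_rfl hT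

theorem row_E7_tits (F : Type) [Field F] [Fintype F] (hF : Fintype.card F = 4) : Row (Nm .tits) ↥(chevE7.group F) 3 := by
  have := charP_two (n := 2) hF
  have : Fact (Nat.Prime 2) := ⟨Nat.prime_two⟩
  intro H N T _ e h hT
  exact titsk_E7 2 (by norm_num) h (by norm_num) hT

end EPS

end Cfsg.Agent.H523.EPX.TK
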