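import Cfsg.Agent.H129.FE.ESeven
import Cfsg.Agent.H943.E7V.AdmMain
import Cfsg.Agent.H248.E7U.Main
import Cfsg.Agent.H299.E7V.GTwo
import Cfsg.Agent.H846.E72.JTwo
import Cfsg.Agent.H174.E72.Omega7
import Cfsg.Agent.H77.E4Seven
import Cfsg.Agent.S1079
import Cfsg.Agent.H209.EPX.Defs

/-!
# S5745: groups which are not subgroups of `F₄(2)` and `E₆(2)` (helper523)

`F₄(2)`, `E₆(2) ≤ E₇(2)` (`H129.FE.toE7`, `exists_e6_e7`), so these groups are admissible in the sense of `H943.E7V` (S5935):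
the groups `U₄(3)`, `G₂(3)`, `Ω₇(3)` and `J₂` are not contained in them.
-/

set_option autoImplicit false

namespace Cfsg.Agent.H523.EPX

open Cfsg Cfsg.Lie Cfsg.Agent.H943.E7V Cfsg.Agent.H129.FE Cfsg.Agent.GpExc.Field Cfsg.Agent.H209.EPX

universe u v

/-! ### the embeddings -/

section emb

open Cfsg.Lie.ChevalleyDatum Cfsg.Agent.ChevalleyStructure Cfsg.Agent.ChevalleyStructure.Elts
  Cfsg.Agent.ChevalleyStructure.StEmbed Cfsg.Agent.ChevalleyStructure.CoxeterGeomTypes

/-- **`E₆(2) ≤ E₇(2)`** -/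
theorem exists_e6_e7 {K : Type u} [Field K] [Fintype K] (hK : Fintype.card K = 2) :
    ∃ f : ↥(chevE6.group K) →* ↥(chevE7.group K), Function.Injective f := by
  obtain ⟨θ6, hs6, hk6, he6⟩ := Cfsg.Agent.S1077.result (K := K) chevE6 (by simp)
  obtain ⟨θ7, hs7, hk7, he7⟩ := Cfsg.Agent.S1077.result (K := K) chevE7 (by simp)
  have hsimp := (Cfsg.Agent.S1054.result (F := K) chevE6 (by simp)).1
  have hc : Nat.card (Subgroup.center (chevE6.SteinbergGroup K)) = 1 := by
    have h := Cfsg.Agent.S1079.result hK (chevE6, 3) (by simp)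
    simpa using h
  have hinj : Function.Injective θ6 := by
    rw [← MonoidHom.ker_eq_bot_iff, hk6]
    exact (Subgroup.card_eq_one).1 hc
  let e6 : chevE6.SteinbergGroup K ≃* ↥(chevE6.group K) := MulEquiv.ofBijective θ6 ⟨hinj, hs6⟩
  set f : ↥(chevE6.group K) →* ↥(chevE7.group K) := (θ7.comp (hom emb67 K)).comp e6.symm.toMonoidHom with hf
  refine ⟨f, ?_⟩
  have hn : (f.ker).Normal := inferInstance
  rcases hn.eq_bot_or_eq_top with h | h
  · exact (MonoidHom.ker_eq_bot_iff f).1 h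
  · exfalso
    have h0 : (0 : ℕ) < chevE6.nroots := by decide +kernel
    have h7 : ι67 0 < chevE7.nroots := by decide +kernel
    have h1 : e6 (chevE6.stGen K 0 1) ∈ f.ker := by rw [h]; exact Subgroup.mem_top _
    have h2 : θ7 (hom emb67 K (chevE6.stGen K 0 1)) = 1 := by
      have h3 : f (e6 (chevE6.stGen K 0 1)) = 1 := h1
      rw [hf] at h3
      simpa using h3
    rw [hom_stGen emb67 h0] at h2
    have h3 := he7 (ι67 0) 1 h7
    rw [h2] at h3
    have hD : InList chevE7 := by simp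
    have h4 : xG (F := K) hD (ι67 0) 1 = 1 := Units.ext h3.symm
    exact one_ne_zero ((xG_eq_one_iff hD h7 _).1 h4)

end emb

theorem adm_f4_two : Adm ↥(chevF4.group (ZMod 2)) := AdmMain.adm.comap (toE7 (ZMod 2)) (toE7_injective _)

theorem adm_e6_two : Adm ↥(chevE6.group (ZMod 2)) := by
  obtain ⟨f, hf⟩ := exists_e6_e7 (K := ZMod 2) (ZMod.card 2)
  exact AdmMain.adm.comap f hf

/-- **`F₄(2)` is admissible** -/
theorem adm_f4 {F : Type u} [Field F] [Fintype F] (hF : Fintype.card F = 2) : Adm ↥(chevF4.group F) := by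
  obtain ⟨e⟩ : Nonempty (F ≃+* ZMod 2) := by
    have h1 : Fintype.card F = Fintype.card (ZMod 2) := by rw [hF, ZMod.card]
    exact ⟨FiniteField.ringEquivOfCardEq h1⟩
  exact adm_f4_two.comap (emb Cfsg.Agent.H129.CycT.typeF4.inList e.toRingHom)
    (emb_injective Cfsg.Agent.H129.CycT.typeF4.inList e.toRingHom)

/-- **`E₆(2)` is admissible** -/
theorem adm_e6 {F : Type u} [Field F] [Fintype F] (hF : Fintype.card F = 2) : Adm ↥(chevE6.group F) := by
  obtain ⟨e⟩ : Nonempty (F ≃+* ZMod 2) := by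
    have h1 : Fintype.card F = Fintype.card (ZMod 2) := by rw [hF, ZMod.card]
    exact ⟨FiniteField.ringEquivOfCardEq h1⟩
  have hD : Cfsg.Agent.ChevalleyStructure.Elts.InList chevE6 := by simp
  exact adm_e6_two.comap (emb hD e.toRingHom) (emb_injective hD e.toRingHom)

theorem adm_congr {S : Type u} {T : Type v} [Group S] [Group T] (e : S ≃* T) (h : Adm S) : Adm T :=
  h.comap e.symm.toMonoidHom e.symm.injective

/-! ### the groups which are not admissible -/

section

variable {T : Type v} [Group T]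

theorem not_adm_psu43 {K : Type*} [Field K] [Fintype K] (hK : Fintype.card K = 9) (e : T ≃* PSU 4 K 3) : ¬ Adm T :=
  fun h => H248.E7U.not_psu43 hK (adm_congr e h)

theorem not_adm_g2_three {K : Type*} [Field K] [Fintype K] (hK : Fintype.card K = 3) (e : T ≃* ↥(chevG2.group K)) :
    ¬ Adm T := fun h => H299.E7V.not_chevG2 hK (adm_congr e h)

theorem not_adm_j2 (h : Spor.IsoJ2 T) : ¬ Adm T := H846.E72.not_j2 h

theorem not_adm_omega7 (e : T ≃* ↥(Omega (ZMod 3) (quadFormOdd 3 (ZMod 3)))) : ¬ Adm T :=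
  fun h => H174.E72.not_omega7 (adm_congr e h)

end

/-! ### embeddings given by `EPS` -/

section

variable {G : Type*} [Group G] {H N : Subgroup G} {T : Type} [Group T] {k : ℕ} {e : N ≃* (Fin k → T)}

/-- `T` is a subgroup of `G` -/
theorem exists_hom (h : EPS H N e) : ∃ f : T →* G, Function.Injective f := by
  classical
  refine ⟨N.subtype.comp (e.symm.toMonoidHom.comp (MonoidHom.mulSingle (fun _ : Fin k => T) ⟨0, h.pos⟩)), ?_⟩
  intro a b hab
  have h1 : e.symm (Pi.mulSingle ⟨0, h.pos⟩ a) = e.symm (Pi.mulSingle ⟨0, h.pos⟩ b) := Subtype.ext hab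
  have h2 := e.symm.injective h1
  exact Pi.mulSingle_injective (M := fun _ : Fin k => T) _ h2

/-- no `EPS` with `T` not admissible in an admissible group -/
theorem eps_false (hG : Adm G) (h : EPS H N e) (hT : ¬ Adm T) : False := by
  obtain ⟨f, hf⟩ := exists_hom h
  exact hT (hG.comap f hf)

end

section

variable {F : Type u} [Field F] [Fintype F] (hF : Nat.card F = 2)

include hF

section f4

variable {H N : Subgroup ↥(chevF4.group F)} {T : Type} [Group T] {k : ℕ} {e : N ≃* (Fin k → T)} (h : EPS H N e)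

include h

/-- **no `U₄(3)` in `F₄(2)`** -/
theorem f4_psu43 {K : Type*} [Field K] [Fintype K] (hK : Fintype.card K = 9) (i : T ≃* PSU 4 K 3) : False :=
  eps_false (adm_f4 (by rw [← Nat.card_eq_fintype_card, hF])) h (not_adm_psu43 hK i)

/-- **no `G₂(3)` in `F₄(2)`** -/
theorem f4_g2_three {K : Type*} [Field K] [Fintype K] (hK : Fintype.card K = 3) (i : T ≃* ↥(chevG2.group K)) : False :=
  eps_false (adm_f4 (by rw [← Nat.card_eq_fintype_card, hF])) h (not_adm_g2_three hK i)

/-- **no `J₂` in `F₄(2)`** -/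
theorem f4_j2 (i : Spor.IsoJ2 T) : False :=
  eps_false (adm_f4 (by rw [← Nat.card_eq_fintype_card, hF])) h (not_adm_j2 i)

/-- **no `Ω₇(3)` in `F₄(2)`** -/
theorem f4_omega7 (i : T ≃* ↥(Omega (ZMod 3) (quadFormOdd 3 (ZMod 3)))) : False :=
  eps_false (adm_f4 (by rw [← Nat.card_eq_fintype_card, hF])) h (not_adm_omega7 i)

end f4

section e6

variable {H N : Subgroup ↥(chevE6.group F)} {T : Type} [Group T] {k : ℕ} {e : N ≃* (Fin k → T)} (h : EPS H N e)

include h

/-- **no `U₄(3)` in `E₆(2)`** -/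
theorem e6_psu43 {K : Type*} [Field K] [Fintype K] (hK : Fintype.card K = 9) (i : T ≃* PSU 4 K 3) : False :=
  eps_false (adm_e6 (by rw [← Nat.card_eq_fintype_card, hF])) h (not_adm_psu43 hK i)

/-- **no `G₂(3)` in `E₆(2)`** -/
theorem e6_g2_three {K : Type*} [Field K] [Fintype K] (hK : Fintype.card K = 3) (i : T ≃* ↥(chevG2.group K)) : False :=
  eps_false (adm_e6 (by rw [← Nat.card_eq_fintype_card, hF])) h (not_adm_g2_three hK i)

/-- **no `J₂` in `E₆(2)`** -/
theorem e6_j2 (i : Spor.IsoJ2 T) : False :=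
  eps_false (adm_e6 (by rw [← Nat.card_eq_fintype_card, hF])) h (not_adm_j2 i)

/-- **no `Ω₇(3)` in `E₆(2)`** -/
theorem e6_omega7 (i : T ≃* ↥(Omega (ZMod 3) (quadFormOdd 3 (ZMod 3)))) : False :=
  eps_false (adm_e6 (by rw [← Nat.card_eq_fintype_card, hF])) h (not_adm_omega7 i)

end e6

end

end Cfsg.Agent.H523.EPX
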