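import Cfsg.Agent.H523.EPX.TitsK
import Cfsg.Agent.H225.EX.E7UThree
import Cfsg.Agent.H286.EPK.EightTwoFin
import Cfsg.Agent.H896.EPX.ASixKill
import Cfsg.Agent.H894.EK.Real
import Cfsg.Agent.H894.EK.Rows

/-!
# S5745, CrossK: the rows of `E₈`, `E₇`, `³D₄` (structures of `H894.EK.Rows`), assembled by helper523

Pieces: helper286 (`A₁₃²`, `A₁₄²` in `E₈(2)`), helper225 (`U₃(3)³` in `E₇(2)`), helper523 (`²F₄(2)'³` in `E₇(4)`), helper896 (`A₆²` in
`³D₄(4)`).
-/

set_option autoImplicit false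

namespace Cfsg.Agent.H523.EPX

open Cfsg Cfsg.Lie Cfsg.Agent.OrdDiv Cfsg.Agent.H209.EPX Cfsg.Agent.H894.EK

/-- `E₈` -/
theorem rowsE8 (F : Type) [Field F] [Fintype F] : RowsE8 F where
  a13 hF := by
    intro H N T _ e h hT
    obtain ⟨f⟩ : Nonempty (T ≃* ↥(alternatingGroup (Fin 13))) := hT
    exact Cfsg.Agent.H286.EPK.e8_two_alternating (by rw [Nat.card_eq_fintype_card, hF]) e le_rfl le_rfl f
  a14 hF := by
    intro H N T _ e h hT
    obtain ⟨f⟩ : Nonempty (T ≃* ↥(alternatingGroup (Fin 14))) := hT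
    exact Cfsg.Agent.H286.EPK.e8_two_alternating (by rw [Nat.card_eq_fintype_card, hF]) e le_rfl (by norm_num) f

/-- `|E₇(2)|` -/
theorem card_e7_two {F : Type} [Field F] [Fintype F] (hF : Fintype.card F = 2) :
    Nat.card ↥(chevE7.group F) = 7997476042075799759100487262680802918400 := by
  have h := (table.{0}).e7 F 2 hF
  have e : Nat.gcd 2 (2 - 1) = 1 := by norm_num
  rw [e, one_mul] at h
  rw [h]
  norm_num

/-- `E₇` -/
theorem rowsE7 (F : Type) [Field F] [Fintype F] : RowsE7 F where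
  u33 hF := by
    intro H N T _ e h hT
    obtain ⟨K, _, _, hK, ⟨i⟩⟩ : ∃ (F : Type) (_ : Field F) (_ : Fintype F), Fintype.card F = 3 ^ 2 ∧
      Nonempty (T ≃* PSU 3 F 3) := hT
    exact Cfsg.Agent.H225.EX.e7q2_u33 (card_e7_two hF) h hK i
  tits hF := TK.row_E7_tits F hF

/-- `³D₄` -/
theorem rowsTD4 (K : Type) [Field K] [Fintype K] {q : ℕ} (hK : Fintype.card K = q ^ 3) : RowsTD4 K q where
  a6 hq := by
    intro H N T _ e h hT
    obtain ⟨f⟩ : Nonempty (T ≃* ↥(alternatingGroup (Fin 6))) := hT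
    subst hq
    refine Cfsg.Agent.H896.EPX.td4_aSix ?_ hK le_rfl h f
    have h2 : IsPrimePow (2 ^ 2) := Nat.prime_two.isPrimePow.pow (by norm_num)
    norm_num at h2
    exact h2

end Cfsg.Agent.H523.EPX
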